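import Cfsg.Agent.H451.BG.Tool
import Cfsg.Agent.LThreeFi22.Inst
import Cfsg.Agent.H867.SporMI
import Cfsg.Agent.PreUniqCo.FiTwentyTwo
import Cfsg.Agent.NotCT.Orders

/-!
# Abelian regular subgroups of almost simple primitive groups (S3561, helper451): `Fi22`
-/

set_option autoImplicit false
set_option maxRecDepth 100000

namespace Cfsg.Agent.H451.BG

open Subgroup Cfsg
open Cfsg.Agent.OrdDiv
open Cfsg.Agent.H57.BG
open Cfsg.Agent.H257.El (Known noOrd_of_noComm noOrd_congr surv Top)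
open Cfsg.Agent.LThreeFi22 Cfsg.Agent.LThreeFi22.Inst

universe u v

/-- no element of order 35 -/
theorem no35_fi22 {K : Type v} [Group K] (e : K ≃* Spor.Fi22) (z : K) : orderOf z ≠ 35 := by
  intro hz
  have C := Inst.ctx e
  have hfin : Finite K := Nat.finite_of_card_ne_zero (by rw [C.card]; norm_num)
  set T : Set K := Cfsg.Agent.KFacts.FiTT.TK e with hT
  have hu : orderOf (z ^ 7) = 5 := by
    rw [orderOf_pow_of_dvd (by norm_num) (by rw [hz]; norm_num), hz]
  have hv : orderOf (z ^ 5) = 7 := by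
    rw [orderOf_pow_of_dvd (by norm_num) (by rw [hz]; norm_num), hz]
  have huv : z ^ 5 * z ^ 7 = z ^ 7 * z ^ 5 := ((Commute.refl z).pow_pow 5 7).eq
  generalize z ^ 7 = u at hu huv
  generalize z ^ 5 = v at hv huv
  have hu5 : u ^ 5 = 1 := by rw [← hu, pow_orderOf_eq_one]
  have hu1 : u ≠ 1 := by rintro rfl; rw [orderOf_one] at hu; norm_num at hu
  have hv7 : v ^ 7 = 1 := by rw [← hv, pow_orderOf_eq_one]
  have hv1 : v ≠ 1 := by rintro rfl; rw [orderOf_one] at hv; norm_num at hv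
  obtain ⟨d0, hd0, hd0'⟩ := C.ex5 u hu5 hu1
  have h10 := (C.five_far hu5 hu1 (d := d0) ⟨hd0, hd0'⟩).1
  have key : ∀ S : Set K, (∀ s ∈ S, v * s * v⁻¹ ∈ S) → ¬ 7 ∣ S.ncard → ∃ s ∈ S, v * s = s * v := by
    intro S hS h7
    by_contra hcon
    push Not at hcon
    apply h7
    have h := fix_modEq (r := 7) (by norm_num) hv7 (S := S) hS
    have h4 : {s | s ∈ S ∧ v * s = s * v} = ∅ := by
      rw [Set.eq_empty_iff_forall_notMem]
      rintro s ⟨hs, hs3⟩
      exact hcon s hs hs3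
    rw [h4, Set.ncard_empty] at h
    exact (Nat.modEq_zero_iff_dvd).1 h
  obtain ⟨d, hd, hvd⟩ := key (Fx T u) (fun s hs => C.fx_conj huv hs) (by rw [h10]; norm_num)
  have h3 := C.five_link hu5 hu1 hd
  obtain ⟨c, ⟨hc, hcd, hdc⟩, hvc⟩ := key {c | c ∈ Fx T u ∧ c ≠ d ∧ d * c = c * d} (by
    rintro c ⟨hc, hcd, hdc⟩
    refine ⟨C.fx_conj huv hc, fun h => hcd ?_, conj_of_comm hvd hdc⟩
    have h4 : v * c = d * v := mul_inv_eq_iff_eq_mul.1 h
    rw [← hvd] at h4
    exact mul_left_cancel h4) (by rw [h3]; norm_num)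
  exact C.iso7 7 (Or.inl rfl) v hv7 hv1 d hd.1 hvd c hc.1 hcd hdc hvc

/-- an element of order 35 in `A₁₃` -/
theorem exists35 : ∃ x : ↥(alternatingGroup (Fin 13)), orderOf x = 35 := by
  let s : Equiv.Perm (Fin 13) := (List.formPerm [0, 1, 2, 3, 4]) * (List.formPerm [5, 6, 7, 8, 9, 10, 11])
  have hs : Equiv.Perm.sign s = 1 := by decide +kernel
  refine ⟨⟨s, hs⟩, ?_⟩
  rw [← Subgroup.orderOf_coe]
  change orderOf s = 35
  have h1 : s ^ 35 = 1 := by decide +kernel
  have h2 : s ^ 5 ≠ 1 := by decide +kernel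
  have h3 : s ^ 7 ≠ 1 := by decide +kernel
  have h4 : orderOf s ∣ 35 := orderOf_dvd_of_pow_eq_one h1
  have h5 : orderOf s ∈ Nat.divisors 35 := Nat.mem_divisors.2 ⟨h4, by norm_num⟩
  rw [show Nat.divisors 35 = {1, 5, 7, 35} by decide +kernel] at h5
  simp only [Finset.mem_insert, Finset.mem_singleton] at h5
  rcases h5 with h5 | h5 | h5 | h5
  · exfalso
    apply h2
    rw [orderOf_eq_one_iff.1 h5, one_pow]
  · exact absurd (by rw [← h5, pow_orderOf_eq_one]) h2
  · exact absurd (by rw [← h5, pow_orderOf_eq_one]) h3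
  · exact h5

theorem surv_fi22 : surv 64561751654400 [(2, 17), (3, 9), (5, 2), (7, 1), (11, 1), (13, 1)] 13 [11] =
    [.alt 13, .suz] := by
  decide +kernel

theorem row_fi22 (tab : OrderTable.{u}) (known : Known.{u}) {T : Type u} [Group T] (h : Spor.IsoFi22 T) :
    Row T := by
  have hn := NotCT.Orders.fi22 h
  have : Finite T := Nat.finite_of_card_ne_zero (by rw [hn]; norm_num)
  obtain ⟨e⟩ := h
  intro A L hr
  have p13 : Nat.Prime 13 := by norm_num
  have p11 : Nat.Prime 11 := by norm_num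
  have no143 : ∀ z : T, orderOf z ≠ 13 * 11 := noOrd_of_noComm p13 p11 fun x y hx hy hxy => by
    have h1 := PreUniqCo.FiTwentyTwo.thirteen e hx hxy.symm
    have h2 := orderOf_dvd_of_pow_eq_one h1
    rw [hy] at h2
    norm_num at h2
  obtain ⟨O, hO, N, hT, g, hg, hreal, hgN, hgL, hidx⟩ := hr.exists_name tab known (r := 13)
    (l := [(2, 17), (3, 9), (5, 2), (7, 1), (11, 1), (13, 1)]) hn (by decide +kernel) p13 (by norm_num) (by norm_num)
    [11] (by simp) (by
      intro s hs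
      rw [List.mem_singleton] at hs
      subst hs
      exact ⟨p11, ⟨by norm_num, by norm_num⟩, no143, by decide +kernel⟩)
  rw [surv_fi22] at hg
  simp only [List.mem_cons, List.not_mem_nil, or_false] at hg
  rcases hg with rfl | rfl
  · obtain ⟨f⟩ := hreal
    obtain ⟨x, hx⟩ := exists35
    obtain ⟨z, hz⟩ := exists_orderOf (N := N) ⟨f.symm x, (MulEquiv.orderOf_eq f.symm x).trans hx⟩
    exact no35_fi22 e z hz
  · have h1 := (H867.SporMI.fi22.congr e.symm).index L hr.proper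
    have h2 : L.index ≤ 144 := Nat.le_of_dvd (by norm_num) (hidx.trans (by decide +kernel))
    omega

end Cfsg.Agent.H451.BG
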