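import Cfsg.Agent.H451.BG.Tool
import Cfsg.Agent.CpAutCoFive.Core
import Cfsg.Agent.PreUniqCo.Facts
import Cfsg.Agent.PreUniqCo.Rows
import Cfsg.Agent.H604.Cop.Conway
import Cfsg.Agent.H49.CoStab
import Cfsg.Agent.NotCT.Orders
import Cfsg.Agent.S2070
import Cfsg.Agent.S2071

/-!
# Abelian regular subgroups of almost simple primitive groups (S3561, helper451): `Co2`, `Co3`
-/

set_option autoImplicit false

namespace Cfsg.Agent.H451.BG

open Subgroup Cfsg Cfsg.Spor
open Cfsg.Agent.OrdDiv
open Cfsg.Agent.H57.BG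
open Cfsg.Agent.H257.El (Known)

universe u v

/-- the centralizers of the elements of order 5 -/
theorem not_nine_of_fix {K : Type v} [Group K] [Finite K] (φ : K →* Co0) (hφ : Function.Injective φ)
    {v : leechLattice} (hv : v ≠ 0) (hfix : ∀ h, φ h • v = v) {x : K} (hx : orderOf x = 5) :
    ¬ 9 ∣ Nat.card (centralizer ({x} : Set K)) := by
  have hmem : x ∈ centralizer ({x} : Set K) := mem_centralizer_singleton_iff.2 rfl
  obtain ⟨y, hy⟩ : ∃ y : ↥(centralizer ({x} : Set K)), (y : K) = x := ⟨⟨x, hmem⟩, rfl⟩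
  have hoy : orderOf y = 5 := by rw [← Subgroup.orderOf_coe, hy, hx]
  refine CpAutCoFive.not_nine PreUniqCo.Facts.facts (φ := φ.comp (centralizer ({x} : Set K)).subtype)
    (hφ.comp Subtype.val_injective) hv (fun h => hfix _) hoy fun g => ?_
  apply Subtype.ext
  rw [coe_mul, coe_mul, hy]
  exact mem_centralizer_singleton_iff.1 g.2

theorem inn_index_of_out {S : Type v} [Group S] (h : Nat.card (Cfsg.Out S) = 1) : (Inn S).index = 1 := h

theorem row_co3 (tab : OrderTable.{u}) (known : Known.{u}) {T : Type u} [Group T] (h : Spor.IsoCo3 T) :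
    Row T := by
  have hn := NotCT.Orders.co3 h
  have : Finite T := Nat.finite_of_card_ne_zero (by rw [hn]; norm_num)
  obtain ⟨e⟩ := h
  have hf := H49.CoStab.finite_co3
  have hs := H49.CoStab.simple_co3
  have hna : ¬ ∀ a b : Spor.Co3, a * b = b * a := fun h1 =>
    H604.Cop.Conway.not_comm_of_card (G := Spor.Co3) (by rw [H49.CoStab.card_co3]; norm_num) ⟨⟨h1⟩⟩
  refine row_conway tab known (n := 495766656000) (b := 4)
    (l := [(2, 10), (3, 7), (5, 3), (7, 1), (11, 1), (23, 1)]) hn
    (center_congr e (center_eq_bot hna)) ?_ ?_ ?_ (by decide +kernel)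
  · rw [inn_index_congr e]
    exact inn_index_of_out S2071.result
  · intro x hx
    rw [cent_congr e]
    exact H604.Cop.Conway.self_co3 _ ((MulEquiv.orderOf_eq e x).trans hx)
  · intro x hx
    rw [cent_congr e]
    exact not_nine_of_fix (K := Spor.Co3) (Subgroup.inclusion (inf_le_left : Spor.Co3 ≤ Co0)) (Subgroup.inclusion_injective _)
      PreUniqCo.Rows.leechV_ne (fun x => x.2.2) ((MulEquiv.orderOf_eq e x).trans hx)

theorem row_co2 (tab : OrderTable.{u}) (known : Known.{u}) {T : Type u} [Group T] (h : Spor.IsoCo2 T) :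
    Row T := by
  have hn := NotCT.Orders.co2 h
  have : Finite T := Nat.finite_of_card_ne_zero (by rw [hn]; norm_num)
  obtain ⟨e⟩ := h
  have hf := H49.CoStab.finite_co2
  have hs := H49.CoStab.simple_co2
  have hna : ¬ ∀ a b : Spor.Co2, a * b = b * a := fun h1 =>
    H604.Cop.Conway.not_comm_of_card (G := Spor.Co2) (by rw [H49.CoStab.card_co2]; norm_num) ⟨⟨h1⟩⟩
  refine row_conway tab known (n := 42305421312000) (b := 4)
    (l := [(2, 18), (3, 6), (5, 3), (7, 1), (11, 1), (23, 1)]) hn
    (center_congr e (center_eq_bot hna)) ?_ ?_ ?_ (by decide +kernel)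
  · rw [inn_index_congr e]
    exact inn_index_of_out S2070.result
  · intro x hx
    rw [cent_congr e]
    exact H604.Cop.Conway.self_co2 _ ((MulEquiv.orderOf_eq e x).trans hx)
  · intro x hx
    rw [cent_congr e]
    exact not_nine_of_fix (K := Spor.Co2) (Subgroup.inclusion (inf_le_left : Spor.Co2 ≤ Co0)) (Subgroup.inclusion_injective _)
      PreUniqCo.Rows.leechU_ne (fun x => x.2.2) ((MulEquiv.orderOf_eq e x).trans hx)

end Cfsg.Agent.H451.BG
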