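import Cfsg.Agent.H451.BG.Tool
import Cfsg.Agent.H587.NR.He
import Cfsg.Agent.H478.SporHe
import Cfsg.Agent.KFacts.He.Outer
import Cfsg.Agent.NotCT.Orders

/-!
# Abelian regular subgroups of almost simple primitive groups (S3561, helper451): the Held group
-/

set_option autoImplicit false
set_option maxRecDepth 100000

namespace Cfsg.Agent.H451.BG

open Subgroup Cfsg
open Cfsg.Agent.OrdDiv
open Cfsg.Agent.H57.BG
open Cfsg.Agent.H257.El (Known noOrd_of_noComm noOrd_congr)
open Cfsg.Spor.He (Gen)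
open Cfsg.Agent.SporadicB.HePerm (act wd phi phi_wd_apply)
open Cfsg.Agent.FixBN.HeStab Cfsg.Agent.KFacts.He.Lv Cfsg.Agent.CpAutHe.Cnt
open Cfsg.Agent.H587.NR.He (A7 B7 W7 ne_of_chkB center_bot)

universe u v

/-- a non-abelian 7-subgroup -/
theorem exists_seven : ∃ P : Subgroup Cfsg.Spor.He, IsPGroup 7 P ∧ ∃ a ∈ P, ∃ b ∈ P, a * b ≠ b * a := by
  have r1 : wd B7 * wd A7 = wd W7 * (wd A7 * wd B7) := by
    have h1 := eq_of_chkB (show chkB (B7 ++ A7) (W7 ++ (A7 ++ B7)) = true by decide +kernel)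
    rwa [wd_append, wd_append, wd_append] at h1
  have r2 : wd A7 * wd W7 = wd W7 * wd A7 := by
    have h1 := eq_of_chkB (show chkB (A7 ++ W7) (W7 ++ A7) = true by decide +kernel)
    rwa [wd_append, wd_append] at h1
  have r3 : wd B7 * wd W7 = wd W7 * wd B7 := by
    have h1 := eq_of_chkB (show chkB (B7 ++ W7) (W7 ++ B7) = true by decide +kernel)
    rwa [wd_append, wd_append] at h1
  have r4 : wd A7 ^ 7 = 1 := by
    have h1 := eq_of_chkB (show chkB (pw A7 7) [] = true by decide +kernel)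
    rwa [wd_pw, wd_nil] at h1
  have r5 : wd B7 ^ 7 = 1 := by
    have h1 := eq_of_chkB (show chkB (pw B7 7) [] = true by decide +kernel)
    rwa [wd_pw, wd_nil] at h1
  have r6 : wd W7 ^ 7 = 1 := by
    have h1 := eq_of_chkB (show chkB (pw W7 7) [] = true by decide +kernel)
    rwa [wd_pw, wd_nil] at h1
  have r7 : wd W7 ≠ 1 := by
    rw [← wd_nil]
    exact ne_of_chkB (by decide +kernel)
  refine ⟨_, H587.NR.isPGroup_closure r1 r2 r3 (by norm_num) r4 r5 r6, wd A7, subset_closure (by simp), wd B7,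
    subset_closure (by simp), fun h => r7 ?_⟩
  rw [← h] at r1
  exact mul_eq_right.1 r1.symm

theorem row_he (tab : OrderTable.{u}) (known : Known.{u}) {T : Type u} [Group T] (h : Spor.IsoHe T) :
    Row T := by
  have hn := NotCT.Orders.he h
  have : Finite T := Nat.finite_of_card_ne_zero (by rw [hn]; norm_num)
  have hout : ¬ 7 ∣ (Inn T).index := by
    rcases KFacts.He.Outer.index_le_two h with h1 | h1 <;> rw [Inn, h1] <;> norm_num
  obtain ⟨e⟩ := h
  have hc : center T = ⊥ := center_congr e center_bot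
  intro A L hr
  have p17 : Nat.Prime 17 := by norm_num
  have p7 : Nat.Prime 7 := by norm_num
  have h17 : 17 ∣ Nat.card L := hr.dvd_card_of_sq p17 (by rw [hn]; norm_num) (by rw [hn]; norm_num)
  have h7 : ¬ 7 ∣ Nat.card L := fun h7 => not_both tab known (r := 17) (s := 7)
    (l := [(2, 10), (3, 3), (5, 2), (7, 3), (17, 1)]) hn p17 p7
    (noOrd_congr e (noOrd_of_noComm p17 p7 fun x y hx hy => H478.SporHe.no119 hx hy)) (by decide +kernel)
    hr.proper h17 h7
  obtain ⟨P, hP, a, ha, b, hb, hab⟩ := exists_seven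
  have h1 := hr.sylow_comm hc p7 h7 hout (P.map e.symm.toMonoidHom) (hP.map _) (e.symm a) ⟨a, ha, rfl⟩ (e.symm b)
    ⟨b, hb, rfl⟩
  rw [← map_mul, ← map_mul] at h1
  exact hab (e.symm.injective h1)

end Cfsg.Agent.H451.BG
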