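import Cfsg.Agent.H57.BG.Pair
import Cfsg.Agent.H57.BG.Gap

/-!
# Abelian regular subgroups of almost simple primitive groups (S3561, helper451): tools for the sporadic rows
-/

set_option autoImplicit false

namespace Cfsg.Agent.H451.BG

open Subgroup
open Cfsg.Agent.OrdDiv
open Cfsg.Agent.H57.BG
open Cfsg.Agent.H257.El (Known okPow okPow_spec okPair okG surv Top exists_top card_quot_mul chkPair noOrd_of_noComm
  noOrd_of_cent noOrd_congr)

universe u v

/-- `|Out|` under isomorphisms -/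
theorem inn_index_congr {S : Type u} {S' : Type v} [Group S] [Group S'] (e : S ≃* S') :
    (Inn S).index = (Inn S').index := by
  have h : (Inn S).map (MulAut.congr e : MulAut S →* MulAut S') = Inn S' := by
    ext x
    constructor
    · rintro ⟨_, ⟨s, rfl⟩, rfl⟩
      exact ⟨e s, (congr_conj e s).symm⟩
    · rintro ⟨s, rfl⟩
      exact ⟨MulAut.conj (e.symm s), ⟨e.symm s, rfl⟩, by
        rw [show ((MulAut.congr e : MulAut S →* MulAut S') (MulAut.conj (e.symm s))) =
          MulAut.congr e (MulAut.conj (e.symm s)) from rfl, congr_conj, e.apply_symm_apply]⟩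
  rw [← h]
  exact (Subgroup.index_map_equiv _ (MulAut.congr e)).symm

theorem center_congr {S : Type u} {S' : Type v} [Group S] [Group S'] (e : S ≃* S') (h : center S' = ⊥) :
    center S = ⊥ := by
  rw [Subgroup.eq_bot_iff_forall]
  intro x hx
  have h1 : e x ∈ center S' := by
    rw [mem_center_iff] at hx ⊢
    intro y
    obtain ⟨y, rfl⟩ := e.surjective y
    rw [← map_mul, ← map_mul, hx y]
  rw [h, mem_bot] at h1
  exact e.injective (h1.trans (map_one e).symm)

theorem cent_congr {S : Type u} {S' : Type v} [Group S] [Group S'] (e : S ≃* S') (x : S) :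
    Nat.card (centralizer ({x} : Set S)) = Nat.card (centralizer ({e x} : Set S')) := by
  refine Nat.card_congr (Equiv.subtypeEquiv e.toEquiv fun y => ?_)
  rw [mem_centralizer_singleton_iff]
  change _ ↔ e y ∈ centralizer ({e x} : Set S')
  rw [mem_centralizer_singleton_iff, ← map_mul, ← map_mul]
  exact e.injective.eq_iff.symm

/-- the exponents -/
theorem pow_dvd_of {p a c m i : ℕ} (hp : p.Prime) (hm0 : m ≠ 0) (h : p ^ (a + c) ∣ m * i) (hm : ¬ p ^ (a + 1) ∣ m) :
    p ^ c ∣ i := by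
  obtain ⟨j, m', hm', rfl⟩ := Nat.exists_eq_pow_mul_and_not_dvd hm0 p hp.one_lt.ne'
  have hj : j ≤ a := by
    by_contra hcon
    exact hm ((pow_dvd_pow p (by omega)).trans (dvd_mul_right _ _))
  have h1 : p ^ j * p ^ c ∣ p ^ j * (m' * i) := by
    rw [← pow_add, ← mul_assoc]
    exact (pow_dvd_pow p (by omega)).trans h
  have h2 := Nat.dvd_of_mul_dvd_mul_left (pow_pos hp.pos _) h1
  exact (Nat.Coprime.pow_left c ((Nat.Prime.coprime_iff_not_dvd hp).2 hm')).dvd_of_dvd_mul_left h2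

/-- the order of a subgroup has the same `s`-part as the simple group at its top; so the index is divisible by `s ^ c` -/
theorem Reg.pow_dvd_index {T : Type u} [Group T] [Finite T] {A : Subgroup (MulAut T)} {L : Subgroup T} (h : Reg A L)
    (tab : OrderTable.{u}) (known : Known.{u}) {n : ℕ} {l : List (ℕ × ℕ)} {r : ℕ}
    (hn : Nat.card T = n) (hv : OrdDiv.valid l n = true) (hr : r.Prime) (hrn : r ∣ n) (hr2 : ¬ r ^ 2 ∣ n)
    {O : Subgroup L} [O.Normal] {N : Subgroup (L ⧸ O)} (hT : Top L r O N) {s a c : ℕ} (hs : s.Prime)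
    (hno : ∀ z : T, orderOf z ≠ r * s) (hok : okPair n l r s = true) (hk : s ^ (a + c) ∣ n)
    (hN : ¬ s ^ (a + 1) ∣ Nat.card N) : s ^ c ∣ L.index := by
  have S : Sit T n l r L := ⟨tab, known, hn, hv, hr, hr2, h.proper, h.dvd_card_of_sq hr (by rwa [hn]) (by rwa [hn])⟩
  refine pow_dvd_of (m := Nat.card L) hs Nat.card_pos.ne' (a := a) ?_ fun h1 => hN ?_
  · rw [L.card_mul_index, hn]
    exact hk
  · exact S.pow_dvd hT hs hno hok h1

/-- an element of the top lifts -/
theorem exists_orderOf {T : Type u} [Group T] [Finite T] {L : Subgroup T} {O : Subgroup L} [O.Normal]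
    {N : Subgroup (L ⧸ O)} {k : ℕ} (h : ∃ x : N, orderOf x = k) : ∃ z : T, orderOf z = k := by
  obtain ⟨x, hx⟩ := h
  obtain ⟨y, hy⟩ := QuotientGroup.mk'_surjective O (x : L ⧸ O)
  have h1 : orderOf (x : L ⧸ O) ∣ orderOf y := by
    rw [← hy]
    exact orderOf_map_dvd _ _
  rw [Subgroup.orderOf_coe, hx] at h1
  obtain ⟨m, hm⟩ := h1
  have h0 : 0 < orderOf y := orderOf_pos y
  have hm0 : m ≠ 0 := by
    rintro rfl
    rw [mul_zero] at hm
    omega
  refine ⟨((y ^ m : L) : T), ?_⟩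
  rw [Subgroup.orderOf_coe, orderOf_pow_of_dvd hm0 (by rw [hm]; exact dvd_mul_left _ _), hm,
    Nat.mul_div_cancel _ (Nat.pos_of_ne_zero hm0)]

/-- the check of `row_conway` -/
def chkC (n : ℕ) (l : List (ℕ × ℕ)) (b : ℕ) : Bool :=
  OrdDiv.valid l n && (n % 23 == 0) && (n % 23 ^ 2 != 0) && (n % 7 == 0) && (n % 7 ^ 2 != 0) && okPair n l 23 7 &&
    okPair n l 23 5 && okPair n l 23 3 && (n % 5 ^ 3 == 0) && (n % 3 ^ (b + 2) == 0) &&
    (surv n l 23 [7]).all fun g => (ordN g % 5 ^ 2 != 0) && (ordN g % 3 ^ (b + 1) != 0)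

/-- **Row**, the Conway groups `Co2`, `Co3` -/
theorem row_conway {T : Type u} [Group T] [Finite T] (tab : OrderTable.{u}) (known : Known.{u}) {n b : ℕ}
    {l : List (ℕ × ℕ)} (hn : Nat.card T = n) (hc : center T = ⊥) (hout : (Inn T).index = 1)
    (h23 : ∀ x : T, orderOf x = 23 → Nat.card (centralizer ({x} : Set T)) = 23)
    (h5 : ∀ x : T, orderOf x = 5 → ¬ 9 ∣ Nat.card (centralizer ({x} : Set T))) (hchk : chkC n l b = true) :
    Row T := by
  intro A L h
  unfold chkC at hchk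
  simp only [Bool.and_eq_true, beq_iff_eq, bne_iff_ne, ne_eq, List.all_eq_true] at hchk
  obtain ⟨⟨⟨⟨⟨⟨⟨⟨⟨⟨c1, c2⟩, c3⟩, c4⟩, c5⟩, c6⟩, c7⟩, c8⟩, c9⟩, c10⟩, c11⟩ := hchk
  have p23 : Nat.Prime 23 := by norm_num
  have p7 : Nat.Prime 7 := by norm_num
  have p5 : Nat.Prime 5 := by norm_num
  have p3 : Nat.Prime 3 := by norm_num
  have d23 : 23 ∣ n := Nat.dvd_of_mod_eq_zero c2
  have e23 : ¬ 23 ^ 2 ∣ n := fun h => c3 (Nat.mod_eq_zero_of_dvd h)
  obtain ⟨O, hO, N, hT, g, hg, -, hgN, -, -⟩ := h.exists_name tab known hn c1 p23 d23 e23 [7] (by simp) (by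
    intro s hs
    rw [List.mem_singleton] at hs
    subst hs
    exact ⟨p7, ⟨Nat.dvd_of_mod_eq_zero c4, fun h => c5 (Nat.mod_eq_zero_of_dvd h)⟩,
      noOrd_of_cent p23 h23 p7 (by norm_num), c6⟩)
  obtain ⟨g1, g2⟩ := c11 g hg
  have i5 : 5 ^ 2 ∣ L.index := Reg.pow_dvd_index h tab known hn c1 p23 d23 e23 hT (a := 1) (c := 2) p5
    (noOrd_of_cent p23 h23 p5 (by norm_num)) c7 (Nat.dvd_of_mod_eq_zero c9) fun h => g1 (by
      rw [hgN] at h
      exact Nat.mod_eq_zero_of_dvd h)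
  have i3 : 3 ^ 2 ∣ L.index := Reg.pow_dvd_index h tab known hn c1 p23 d23 e23 hT (a := b) (c := 2) p3
    (noOrd_of_cent p23 h23 p3 (by norm_num)) c8 (Nat.dvd_of_mod_eq_zero c10) fun h => g2 (by
      rw [hgN] at h
      exact Nat.mod_eq_zero_of_dvd h)
  obtain ⟨z, hz, hzo⟩ := h.exists_inner hc (p := 5) (k := 2) p5 i5 (by rw [hout]; norm_num)
  have h1 := h.index_dvd_cent hc (X := {z}) (by simpa using hz)
  rw [hout, mul_one] at h1
  exact h5 z hzo ((show (9 : ℕ) = 3 ^ 2 by norm_num) ▸ i3.trans h1)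

end Cfsg.Agent.H451.BG
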